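import Mathlib.GroupTheory.IsSubnormal
import Mathlib.GroupTheory.Nilpotent
import Mathlib.GroupTheory.Commutator.Basic
import Mathlib.GroupTheory.Subgroup.Centralizer
import Cfsg.Prelude.Def_Local
import Cfsg.Agent.Lib.Transfer.Basic

/-!
Groups of characteristic `p` (`C(O_p) ≤ O_p`): subnormal subgroups, normalizers of `p`-subgroups,
the `P × Q` lemma, and passage from centralizers of elements to normalizers.
-/

set_option autoImplicit false
set_option linter.style.haveILetI false

namespace Cfsg.Agent.CharP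

open Cfsg Cfsg.Agent.PBasic

variable {G : Type*} [Group G] {p : ℕ} [hp : Fact p.Prime]

/-- `X` has characteristic `p`. (`Cfsg.IsOfCharacteristicTwo X` is this for `p = 2`.) -/
def IsCharP (p : ℕ) (X : Type*) [Group X] : Prop :=
  Subgroup.centralizer (pCore p X : Set X) ≤ pCore p X

/-- `O_p(K)` as a subgroup of the ambient group. -/
def opIn (p : ℕ) (K : Subgroup G) : Subgroup G := (pCore p ↥K).map K.subtype

omit hp in
theorem opIn_le (K : Subgroup G) : opIn p K ≤ K := Subgroup.map_subtype_le _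

omit hp in
theorem opIn_isPGroup (K : Subgroup G) : IsPGroup p (opIn p K) := (pCore_isPGroup p ↥K).map _

omit hp in
theorem conj_mem_opIn {K : Subgroup G} {g y : G} (hg : g ∈ Subgroup.normalizer (K : Set G))
    (hy : y ∈ opIn p K) : g * y * g⁻¹ ∈ opIn p K := by
  obtain ⟨y, hy, rfl⟩ := hy
  refine ⟨⟨g * y * g⁻¹, (Subgroup.mem_normalizer_iff.1 hg _).1 y.2⟩, ?_, rfl⟩
  let e : K ≃* K :=
    { toFun := fun k => ⟨g * k * g⁻¹, (Subgroup.mem_normalizer_iff.1 hg _).1 k.2⟩
      invFun := fun k => ⟨g⁻¹ * k * g, (Subgroup.mem_normalizer_iff.1 hg _).2 (by simp [mul_assoc])⟩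
      left_inv := fun k => Subtype.ext (by simp [mul_assoc])
      right_inv := fun k => Subtype.ext (by simp [mul_assoc])
      map_mul' := fun a b => Subtype.ext (by simp [mul_assoc]) }
  have h := map_pCore_equiv (p := p) e
  rw [← h]
  exact ⟨y, hy, rfl⟩

omit hp in
theorem normalizer_le_normalizer_opIn (K : Subgroup G) :
    Subgroup.normalizer (K : Set G) ≤ Subgroup.normalizer (opIn p K : Set G) :=
  Subgroup.le_normalizer_iff.2 fun _ hg _ hy => conj_mem_opIn hg hy

omit hp in
theorem le_normalizer_opIn (K : Subgroup G) : K ≤ Subgroup.normalizer (opIn p K : Set G) :=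
  Subgroup.le_normalizer.trans (normalizer_le_normalizer_opIn K)

omit hp in
theorem le_opIn {N K : Subgroup G} (hNK : N ≤ K) (hn : K ≤ Subgroup.normalizer (N : Set G))
    (hN : IsPGroup p N) : N ≤ opIn p K := by
  intro x hx
  have hn' : (N.subgroupOf K).Normal := (Subgroup.normal_subgroupOf_iff_le_normalizer hNK).2 hn
  exact ⟨⟨x, hNK hx⟩, le_pCore hn' (hN.comap_subtype) hx, rfl⟩

/-! ### coprime elements stabilizing a chain -/

omit hp in
theorem conj_pow_eq_mul_pow {x y c : G} (h : x * y * x⁻¹ = y * c) (hc : x * c * x⁻¹ = c) :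
    ∀ n : ℕ, x ^ n * y * (x ^ n)⁻¹ = y * c ^ n := by
  intro n
  induction n with
  | zero => simp
  | succ n ih =>
    calc x ^ (n + 1) * y * (x ^ (n + 1))⁻¹ = x * (x ^ n * y * (x ^ n)⁻¹) * x⁻¹ := by
          rw [pow_succ']; group
      _ = (x * y * x⁻¹) * (x * c * x⁻¹) ^ n := by rw [ih, conj_pow]; group
      _ = y * c ^ (n + 1) := by rw [h, hc, pow_succ', mul_assoc]

/-- If `x` has order prime to `p`, `[x, y] ` is a `p`-element fixed by `x`, then `x` fixes `y`. -/
theorem commute_of_conj_eq_mul {x y c : G} {P : Subgroup G} (hP : IsPGroup p P) (hcP : c ∈ P)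
    (hx : (orderOf x).Coprime p) (h : x * y * x⁻¹ = y * c) (hc : x * c = c * x) : x * y = y * x := by
  have h1 := conj_pow_eq_mul_pow h (by rw [hc, mul_inv_cancel_right]) (orderOf x)
  rw [pow_orderOf_eq_one, one_mul, inv_one, mul_one, left_eq_mul] at h1
  have hc1 : c = 1 := eq_one_of_isPGroup_of_coprime hP hcP
    (Nat.Coprime.coprime_dvd_left (orderOf_dvd_of_pow_eq_one h1) hx)
  rw [hc1, mul_one] at h
  exact mul_inv_eq_iff_eq_mul.1 h

/-- The `P × Q` lemma. -/
theorem pxq [Finite G] {R U : Subgroup G} {x : G} (hR : IsPGroup p R) (hU : IsPGroup p U)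
    (hUR : U ≤ Subgroup.normalizer (R : Set G)) (hx : (orderOf x).Coprime p)
    (hxR : x ∈ Subgroup.normalizer (R : Set G)) (hxU : ∀ u ∈ U, x * u = u * x)
    (hxC : ∀ r ∈ R, (∀ u ∈ U, r * u = u * r) → x * r = r * x) : ∀ r ∈ R, x * r = r * x := by
  set P := R ⊔ U with hPdef
  have hP : IsPGroup p P := hR.to_sup_of_normal_left' hU hUR
  set W := P ⊓ Subgroup.centralizer ({x} : Set G) with hWdef
  have memW : ∀ w, w ∈ W ↔ w ∈ P ∧ x * w = w * x := fun w => by
    rw [hWdef, Subgroup.mem_inf, Subgroup.mem_centralizer_singleton_iff]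
    exact and_congr_right fun _ => eq_comm
  suffices hWP : W = P by
    intro r hr
    exact ((memW r).1 (hWP.symm ▸ Subgroup.mem_sup_left hr)).2
  by_contra hne
  have hlt : W.subgroupOf P < ⊤ := by
    rw [lt_top_iff_ne_top, Ne, Subgroup.subgroupOf_eq_top]
    exact fun h => hne (le_antisymm inf_le_left h)
  haveI : Group.IsNilpotent P := hP.isNilpotent
  obtain ⟨⟨y, hyP⟩, hyN, hyW⟩ := SetLike.exists_of_lt
    (Group.normalizerCondition_of_isNilpotent (G := P) (W.subgroupOf P) hlt)
  apply hyW
  rw [Subgroup.mem_subgroupOf, memW]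
  refine ⟨hyP, ?_⟩
  have hyconj : ∀ w ∈ W, y * w * y⁻¹ ∈ W := fun w hw => by
    have := (Subgroup.mem_normalizer_iff.1 hyN ⟨w, inf_le_left (a := P) hw⟩).1
      (Subgroup.mem_subgroupOf.2 hw)
    simpa [Subgroup.mem_subgroupOf] using this
  set c := y⁻¹ * (x * y * x⁻¹) with hcdef
  have hcR : c ∈ R := by
    obtain ⟨r, hr, u, hu, rfl⟩ : ∃ r ∈ R, ∃ u ∈ U, r * u = y := by
      have : y ∈ ((R ⊔ U : Subgroup G) : Set G) := hyP
      rw [Subgroup.coe_mul_of_right_le_normalizer_left R U hUR] at this
      obtain ⟨r, hr, u, hu, h⟩ := Set.mem_mul.1 this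
      exact ⟨r, hr, u, hu, h⟩
    have h1 : x * u * x⁻¹ = u := by rw [hxU u hu, mul_inv_cancel_right]
    have h2 : c = u⁻¹ * (r⁻¹ * (x * r * x⁻¹)) * u := by
      rw [hcdef]
      calc (r * u)⁻¹ * (x * (r * u) * x⁻¹) = u⁻¹ * (r⁻¹ * (x * r * x⁻¹)) * (x * u * x⁻¹) := by group
        _ = _ := by rw [h1]
    rw [h2]
    have h3 := (Subgroup.mem_normalizer_iff.1 (inv_mem (hUR hu)) (r⁻¹ * (x * r * x⁻¹))).1
      (mul_mem (inv_mem hr) ((Subgroup.mem_normalizer_iff.1 hxR r).1 hr))
    rwa [inv_inv] at h3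
  have hcC : x * c = c * x := by
    refine hxC c hcR fun u hu => ?_
    have huW : u ∈ W := (memW u).2 ⟨Subgroup.mem_sup_right hu, hxU u hu⟩
    have h1 := ((memW _).1 (hyconj u huW)).2
    have hu' := hxU u hu
    have h2 : x * y * x⁻¹ * u * (x * y * x⁻¹)⁻¹ = y * u * y⁻¹ := by
      calc x * y * x⁻¹ * u * (x * y * x⁻¹)⁻¹ = x * (y * (x⁻¹ * (u * x)) * y⁻¹) * x⁻¹ := by group
        _ = x * (y * u * y⁻¹) * x⁻¹ := by rw [← hu', inv_mul_cancel_left]
        _ = y * u * y⁻¹ := by rw [h1, mul_inv_cancel_right]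
    rw [hcdef]
    calc y⁻¹ * (x * y * x⁻¹) * u = y⁻¹ * (x * y * x⁻¹ * u * (x * y * x⁻¹)⁻¹) * (x * y * x⁻¹) := by
          group
      _ = u * (y⁻¹ * (x * y * x⁻¹)) := by rw [h2]; group
  exact commute_of_conj_eq_mul hP (Subgroup.mem_sup_left hcR) hx (by rw [hcdef]; group) hcC

/-! ### characteristic `p` -/

theorem isCharP_iff [Finite G] (K : Subgroup G) : IsCharP p ↥K ↔
    ∀ x ∈ K, (orderOf x).Coprime p → (∀ y ∈ opIn p K, x * y = y * x) → x = 1 := by
  constructor
  · intro h x hxK hx hc
    have : (⟨x, hxK⟩ : K) ∈ pCore p ↥K := h (Subgroup.mem_centralizer_iff.2 fun y hy =>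
      Subtype.ext (hc y ⟨y, hy, rfl⟩).symm)
    exact eq_one_of_isPGroup_of_coprime (opIn_isPGroup (p := p) K) ⟨_, this, rfl⟩ hx
  · intro h
    refine le_pCore inferInstance ?_
    rw [isPGroup_iff_forall_coprime]
    intro x hx
    have hx' := h ((x : K) : G) (x : K).2 (by rwa [Subgroup.orderOf_coe, Subgroup.orderOf_coe])
      (fun y ⟨y', hy', hy⟩ => hy ▸ (congrArg Subtype.val (Subgroup.mem_centralizer_iff.1 x.2 y' hy')).symm)
    exact Subtype.ext (Subtype.ext hx')

omit hp in
theorem isCharP_congr {X Y : Type*} [Group X] [Group Y] (e : X ≃* Y) :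
    IsCharP p X → IsCharP p Y := by
  intro h y hy
  rw [← map_pCore_equiv (p := p) e]
  refine ⟨e.symm y, h (Subgroup.mem_centralizer_iff.2 fun x hx => e.injective ?_), by simp⟩
  have hex : e x ∈ pCore p Y := by rw [← map_pCore_equiv (p := p) e]; exact ⟨x, hx, rfl⟩
  simpa using Subgroup.mem_centralizer_iff.1 hy (e x) hex

theorem isCharP_top [Finite G] : IsCharP p ↥(⊤ : Subgroup G) ↔ IsCharP p G :=
  ⟨isCharP_congr Subgroup.topEquiv, isCharP_congr Subgroup.topEquiv.symm⟩

/-- A normal subgroup of a group of characteristic `p` has characteristic `p`. -/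
theorem isCharP_of_normalized [Finite G] {N K : Subgroup G} (hK : IsCharP p ↥K) (hNK : N ≤ K)
    (hn : K ≤ Subgroup.normalizer (N : Set G)) : IsCharP p ↥N := by
  rw [isCharP_iff] at hK ⊢
  intro x hxN hx hc
  refine hK x (hNK hxN) hx fun y hy => ?_
  set c := y⁻¹ * (x * y * x⁻¹) with hcdef
  have hy' : x * y * x⁻¹ ∈ opIn p K := conj_mem_opIn (Subgroup.le_normalizer (hNK hxN)) hy
  have hcN : c ∈ N := by
    have h1 := (Subgroup.mem_normalizer_iff.1 (hn (inv_mem (opIn_le K hy))) x).1 hxN
    rw [inv_inv] at h1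
    rw [hcdef, show y⁻¹ * (x * y * x⁻¹) = y⁻¹ * x * y * x⁻¹ by group]
    exact mul_mem h1 (inv_mem hxN)
  have hcO : c ∈ opIn p N := by
    refine le_opIn inf_le_right ?_ ((opIn_isPGroup K).to_le (inf_le_left : opIn p K ⊓ N ≤ _))
      (Subgroup.mem_inf.2 ⟨mul_mem (inv_mem hy) hy', hcN⟩)
    exact Subgroup.le_normalizer_iff.2 fun g hg z hz =>
      ⟨conj_mem_opIn (Subgroup.le_normalizer (hNK hg)) hz.1,
        (Subgroup.mem_normalizer_iff.1 (Subgroup.le_normalizer hg) z).1 hz.2⟩
  exact commute_of_conj_eq_mul (opIn_isPGroup K) (mul_mem (inv_mem hy) hy') hx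
    (by group) (hc c hcO)

theorem isCharP_of_isSubnormal [Finite G] (hG : IsCharP p G) {N : Subgroup G}
    (hN : N.IsSubnormal) : IsCharP p ↥N := by
  induction hN with
  | top => exact isCharP_top.2 hG
  | step H K h_le _ hn ih =>
    exact isCharP_of_normalized ih h_le ((Subgroup.normal_subgroupOf_iff_le_normalizer h_le).1 hn)

/-- If a `p`-group `A` normalizes `K` of characteristic `p`, then `C_K(A)` has characteristic `p`. -/
theorem isCharP_inf_centralizer [Finite G] {K A : Subgroup G} (hK : IsCharP p ↥K)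
    (hA : IsPGroup p A) (hAK : A ≤ Subgroup.normalizer (K : Set G)) :
    IsCharP p ↥(K ⊓ Subgroup.centralizer (A : Set G)) := by
  rw [isCharP_iff] at hK ⊢
  intro x hxm hx hc
  obtain ⟨hxK, hxA⟩ := hxm
  refine hK x hxK hx ?_
  refine pxq (opIn_isPGroup K) hA (hAK.trans (normalizer_le_normalizer_opIn K)) hx
    (le_normalizer_opIn K hxK) (fun u hu => (Subgroup.mem_centralizer_iff.1 hxA u hu).symm) ?_
  intro r hr hru
  refine hc r (le_opIn (N := opIn p K ⊓ Subgroup.centralizer (A : Set G))
    (inf_le_inf_right _ (opIn_le K)) ?_ ((opIn_isPGroup K).to_le inf_le_left)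
    ⟨hr, Subgroup.mem_centralizer_iff.2 fun u hu => (hru u hu).symm⟩)
  exact Subgroup.le_normalizer_iff.2 fun g hg z hz => Subgroup.mem_inf.2
    ⟨conj_mem_opIn (Subgroup.le_normalizer hg.1) hz.1,
      mul_mem (mul_mem (Subgroup.mem_inf.1 hg).2 (Subgroup.mem_inf.1 hz).2) (inv_mem (Subgroup.mem_inf.1 hg).2)⟩

/-- Normalizers of `p`-subgroups in a group of characteristic `p` have characteristic `p`. -/
theorem isCharP_inf_normalizer [Finite G] {K U : Subgroup G} (hK : IsCharP p ↥K)
    (hU : IsPGroup p U) (hUK : U ≤ K) :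
    IsCharP p ↥(K ⊓ Subgroup.normalizer (U : Set G)) := by
  rw [isCharP_iff] at hK ⊢
  intro x hxm hx hc
  obtain ⟨hxK, hxN⟩ := hxm
  refine hK x hxK hx ?_
  have hUO : U ≤ opIn p (K ⊓ Subgroup.normalizer (U : Set G)) :=
    le_opIn (le_inf hUK Subgroup.le_normalizer) inf_le_right hU
  refine pxq (opIn_isPGroup K) hU (hUK.trans (le_normalizer_opIn K)) hx
    (le_normalizer_opIn K hxK) (fun u hu => hc u (hUO hu)) ?_
  intro r hr hru
  have hrN : r ∈ Subgroup.normalizer (U : Set G) := by
    rw [Subgroup.mem_normalizer_iff]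
    intro u
    constructor
    · intro hu; rwa [hru u hu, mul_inv_cancel_right]
    · intro hu
      have h1 := hru _ hu
      have : r * u * r⁻¹ = u := by
        have h2 : r⁻¹ * (r * u * r⁻¹) * r = r * u * r⁻¹ := by rw [mul_assoc, ← h1, inv_mul_cancel_left]
        rw [← h2]; group
      rwa [this] at hu
  refine hc r (le_opIn (N := opIn p K ⊓ Subgroup.normalizer (U : Set G))
    (inf_le_inf_right _ (opIn_le K)) ?_ ((opIn_isPGroup K).to_le inf_le_left) ⟨hr, hrN⟩)
  exact Subgroup.le_normalizer_iff.2 fun g hg z hz => Subgroup.mem_inf.2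
    ⟨conj_mem_opIn (Subgroup.le_normalizer hg.1) hz.1,
      mul_mem (mul_mem (Subgroup.mem_inf.1 hg).2 (Subgroup.mem_inf.1 hz).2) (inv_mem (Subgroup.mem_inf.1 hg).2)⟩

/-- If `z` lies in the `p`-group `U` and `C(z)` has characteristic `p`, then so do `C(U)` and `N(U)`. -/
theorem isCharP_centralizer_of_mem [Finite G] {U : Subgroup G} {z : G} (hU : IsPGroup p U)
    (hzU : z ∈ U) (hz : IsCharP p ↥(Subgroup.centralizer ({z} : Set G))) :
    IsCharP p ↥(Subgroup.centralizer (U : Set G)) := by
  have hstart : IsCharP p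
      ↥(Subgroup.centralizer ((U ⊓ Subgroup.centralizer ({z} : Set G) : Subgroup G) : Set G)) := by
    set W := U ⊓ Subgroup.centralizer ({z} : Set G)
    have h1 := isCharP_inf_centralizer hz (hU.to_le (inf_le_left : W ≤ U))
      (inf_le_right.trans Subgroup.le_normalizer)
    rwa [inf_eq_right.2 (Subgroup.centralizer_le (by
      simpa [W, Subgroup.mem_centralizer_singleton_iff] using hzU))] at h1
  have key : ∀ W : Subgroup G, W ≤ U → IsCharP p ↥(Subgroup.centralizer (W : Set G)) →
      IsCharP p ↥(Subgroup.centralizer (U : Set G)) := by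
    intro W
    induction W using WellFoundedGT.induction with
    | ind W ih =>
      intro hW hC
      by_cases hWU : W = U
      · exact hWU ▸ hC
      haveI : Group.IsNilpotent U := hU.isNilpotent
      have hlt := Group.normalizerCondition_of_isNilpotent (G := U) (W.subgroupOf U)
        (lt_top_iff_ne_top.2 fun h => hWU (le_antisymm hW (Subgroup.subgroupOf_eq_top.1 h)))
      obtain ⟨⟨y, hyU⟩, hyN, hyW⟩ := SetLike.exists_of_lt hlt
      set W1 := U ⊓ Subgroup.normalizer (W : Set G) with hW1
      have hWW1 : W ≤ W1 := le_inf hW Subgroup.le_normalizer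
      have hy1 : y ∈ W1 := by
        refine ⟨hyU, Subgroup.mem_normalizer_iff.2 fun w => ?_⟩
        by_cases hwU : w ∈ U
        · simpa [Subgroup.mem_subgroupOf] using Subgroup.mem_normalizer_iff.1 hyN ⟨w, hwU⟩
        · exact ⟨fun h => absurd (hW h) hwU, fun h => absurd (by
            simpa [mul_assoc] using mul_mem (mul_mem (inv_mem hyU) (hW h)) hyU) hwU⟩
      refine ih W1 (lt_of_le_of_ne hWW1 fun h => hyW ?_) inf_le_left ?_
      · rw [Subgroup.mem_subgroupOf]; exact h.symm ▸ hy1
      · have h1 := isCharP_inf_centralizer hC (hU.to_le (inf_le_left : W1 ≤ U))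
          (inf_le_right.trans (Subgroup.le_normalizer_iff.2 fun g hg c hc => ?_))
        · rwa [inf_eq_right.2 (Subgroup.centralizer_le hWW1)] at h1
        · rw [Subgroup.mem_centralizer_iff]
          intro w hw
          have hw' := (Subgroup.mem_normalizer_iff.1 (inv_mem hg) w).1 hw
          rw [inv_inv] at hw'
          calc w * (g * c * g⁻¹) = g * ((g⁻¹ * w * g) * c) * g⁻¹ := by group
            _ = g * (c * (g⁻¹ * w * g)) * g⁻¹ := by rw [Subgroup.mem_centralizer_iff.1 hc _ hw']
            _ = g * c * g⁻¹ * w := by group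
  exact key _ inf_le_left hstart

theorem isCharP_normalizer_of_mem [Finite G] {U : Subgroup G} {z : G} (hU : IsPGroup p U)
    (hzU : z ∈ U) (hz : IsCharP p ↥(Subgroup.centralizer ({z} : Set G))) :
    IsCharP p ↥(Subgroup.normalizer (U : Set G)) := by
  have hC := (isCharP_iff _).1 (isCharP_centralizer_of_mem hU hzU hz)
  rw [isCharP_iff]
  intro x _ hx hc
  have hxC : x ∈ Subgroup.centralizer (U : Set G) := Subgroup.mem_centralizer_iff.2 fun u hu =>
    (hc u (le_opIn Subgroup.le_normalizer le_rfl hU hu)).symm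
  refine hC x hxC hx fun y hy => hc y ?_
  refine le_opIn (N := opIn p (Subgroup.centralizer (U : Set G)))
    ((opIn_le _).trans (Subgroup.centralizer_le_normalizer _)) ?_ (opIn_isPGroup _) hy
  refine le_trans ?_ (normalizer_le_normalizer_opIn _)
  refine Subgroup.le_normalizer_iff.2 fun g hg c hc => Subgroup.mem_centralizer_iff.2 fun w hw => ?_
  have hw' := (Subgroup.mem_normalizer_iff.1 (inv_mem hg) w).1 hw
  rw [inv_inv] at hw'
  calc w * (g * c * g⁻¹) = g * ((g⁻¹ * w * g) * c) * g⁻¹ := by group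
    _ = g * (c * (g⁻¹ * w * g)) * g⁻¹ := by rw [Subgroup.mem_centralizer_iff.1 hc _ hw']
    _ = g * c * g⁻¹ * w := by group

/-! ### subnormal `p`- and `p'`-subgroups, components -/

omit hp in
theorem isPGroup_le_pCore_of_isSubnormal {N : Subgroup G} (hN : N.IsSubnormal)
    (h : IsPGroup p N) : N ≤ pCore p G := by
  have key : ∀ {X : Subgroup G}, X.IsSubnormal → opIn p X ≤ pCore p G := by
    intro X hX
    induction hX with
    | top => exact map_pCore_le_of_normal ⊤
    | step H K h_le _ hn ih =>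
      refine le_trans (le_opIn ((opIn_le H).trans h_le) ?_ (opIn_isPGroup H)) ih
      exact ((Subgroup.normal_subgroupOf_iff_le_normalizer h_le).1 hn).trans
        (normalizer_le_normalizer_opIn H)
  exact (le_opIn le_rfl Subgroup.le_normalizer h).trans (key hN)

theorem coprime_le_pPrimeCore_of_isSubnormal [Finite G] {N : Subgroup G} (hN : N.IsSubnormal)
    (h : (Nat.card N).Coprime p) : N ≤ pPrimeCore p G := by
  have key : ∀ {X : Subgroup G}, X.IsSubnormal →
      (pPrimeCore p ↥X).map X.subtype ≤ pPrimeCore p G := by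
    intro X hX
    induction hX with
    | top => exact map_pPrimeCore_le_of_normal ⊤
    | step H K h_le _ hn ih =>
      refine le_trans ?_ ih
      set f := (Subgroup.subgroupOfEquivOfLe h_le).symm
      have h1 := map_pPrimeCore_le_of_normal (p := p) (H.subgroupOf K)
      rw [← map_pPrimeCore_equiv (p := p) f, Subgroup.map_map] at h1
      intro x hx
      obtain ⟨y, hy, rfl⟩ := hx
      exact ⟨_, h1 ⟨y, hy, rfl⟩, rfl⟩
  refine le_trans ?_ (key hN)
  intro x hx
  exact ⟨⟨x, hx⟩, le_pPrimeCore (N := ⊤) inferInstance (by rwa [Subgroup.card_top])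
    (Subgroup.mem_top _), rfl⟩

theorem not_isComponent_of_isCharP [Finite G] (hG : IsCharP p G) (K : Subgroup G) :
    ¬ IsComponent K := by
  rintro ⟨hK, hq⟩
  have hp1 : pCore p ↥K ≠ ⊤ := by
    intro h
    have : IsPGroup p ↥K := by
      have := pCore_isPGroup p ↥K
      rw [h] at this
      exact this.of_equiv Subgroup.topEquiv
    haveI := this.isNilpotent
    haveI := hq.1
    haveI := hq.2
    obtain ⟨x, hx⟩ := exists_ne (1 : ↥K ⧸ Subgroup.center ↥K)
    have hsolv : Group.IsSolvable ↥K := inferInstance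
    haveI : Nontrivial ↥K := (QuotientGroup.mk_surjective (s := Subgroup.center ↥K)).nontrivial
    exact Group.IsPerfect.not_isSolvable (G := ↥K) hsolv
  haveI := hq.2
  have hnormal : ((pCore p ↥K).map (QuotientGroup.mk' (Subgroup.center ↥K))).Normal :=
    (pCore_normal p ↥K).map _ (QuotientGroup.mk'_surjective _)
  have hcl : ∀ x : ↥K, x ∈ pCore p ↥K → x ∈ Subgroup.center ↥K := by
    rcases hnormal.eq_bot_or_eq_top with h | h
    · intro x hx
      rw [← QuotientGroup.eq_one_iff, ← Subgroup.mem_bot, ← h]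
      exact ⟨x, hx, rfl⟩
    · exfalso
      have hsup : pCore p ↥K ⊔ Subgroup.center ↥K = ⊤ := by
        have := congrArg (Subgroup.comap (QuotientGroup.mk' (Subgroup.center ↥K))) h
        rwa [Subgroup.comap_map_eq, QuotientGroup.ker_mk', Subgroup.comap_top] at this
      haveI := hq.1
      refine hp1 (eq_top_iff.2 ?_)
      rw [← Group.IsPerfect.commutator_eq_top (G := ↥K), commutator_def, Subgroup.commutator_le]
      intro a _ b _
      obtain ⟨u, hu, z, hz, rfl⟩ := Subgroup.mem_sup_of_normal_right.1 (hsup ▸ Subgroup.mem_top a)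
      have hz' : ∀ g, g * z = z * g := Subgroup.mem_center_iff.1 hz
      have : u * z * b * (u * z)⁻¹ * b⁻¹ = u * (b * u⁻¹ * b⁻¹) := by
        calc u * z * b * (u * z)⁻¹ * b⁻¹ = u * (z * b) * z⁻¹ * u⁻¹ * b⁻¹ := by group
          _ = u * (b * z) * z⁻¹ * u⁻¹ * b⁻¹ := by rw [← hz' b]
          _ = _ := by group
      rw [commutatorElement_def, this]
      exact mul_mem hu ((pCore_normal p ↥K).conj_mem _ (inv_mem hu) b)
  have htop : (⊤ : Subgroup ↥K) ≤ pCore p ↥K := le_trans
    (fun x _ => Subgroup.mem_centralizer_iff.2 fun y hy =>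
      (Subgroup.mem_center_iff.1 (hcl y hy) x).symm)
    (isCharP_of_isSubnormal hG hK)
  exact hp1 (top_le_iff.1 htop)

/-- Without components and `p'`-core, a group has characteristic `p`. -/
theorem isCharP_of_no_component [Finite G] (h0 : pPrimeCore p G = ⊥)
    (hc : ∀ K : Subgroup G, ¬ IsComponent K) : IsCharP p G := by
  set C := Subgroup.centralizer (pCore p G : Set G) with hC
  refine le_pCore inferInstance ?_
  by_contra hnp
  obtain ⟨L, ⟨hLs, hLC, hLp⟩, hLmin⟩ :=
    (Set.toFinite {L : Subgroup G | L.IsSubnormal ∧ L ≤ C ∧ ¬ IsPGroup p L}).exists_minimal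
      ⟨C, (inferInstance : C.Normal).isSubnormal, le_rfl, hnp⟩
  have hprop : ∀ M : Subgroup ↥L, M.Normal → M ≠ ⊤ → M ≤ Subgroup.center ↥L := by
    intro M hM hne
    have hsn : (M.map L.subtype).IsSubnormal := hM.isSubnormal.trans' hLs
    have hlt : M.map L.subtype < L := by
      refine lt_of_le_of_ne (Subgroup.map_subtype_le M) fun h => hne ?_
      rw [eq_top_iff]
      intro x _
      obtain ⟨y, hy, hxy⟩ := h.symm.le x.2
      exact (Subtype.ext hxy : y = x) ▸ hy
    have hpg : IsPGroup p (M.map L.subtype) := by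
      by_contra hcon
      exact hlt.not_ge (hLmin ⟨hsn, hlt.le.trans hLC, hcon⟩ hlt.le)
    intro x hx
    rw [Subgroup.mem_center_iff]
    intro y
    exact Subtype.ext ((Subgroup.mem_centralizer_iff.1 (hLC y.2) x
      (isPGroup_le_pCore_of_isSubnormal hsn hpg ⟨x, hx, rfl⟩)).symm)
  by_cases hperf : commutator ↥L = ⊤
  · -- then `L` is a component
    haveI : Group.IsPerfect ↥L := ⟨hperf⟩
    refine hc L ⟨hLs, inferInstance, ?_⟩
    haveI : Nontrivial (↥L ⧸ Subgroup.center ↥L) := by
      refine QuotientGroup.nontrivial_iff.2 fun h => hLp ?_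
      have habel : ∀ a b : ↥L, a * b = b * a := fun a b =>
        Subgroup.mem_center_iff.1 (h ▸ Subgroup.mem_top b) a
      have : commutator ↥L = ⊥ := by
        rw [eq_bot_iff, commutator_def, Subgroup.commutator_le]
        intro a _ b _
        rw [Subgroup.mem_bot, commutatorElement_eq_one_iff_mul_comm]
        exact habel a b
      rw [hperf] at this
      haveI : Subsingleton ↥L := Subgroup.subsingleton_iff.1 (subsingleton_of_bot_eq_top this.symm)
      exact IsPGroup.of_card (n := 0) (by simp)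
    refine ⟨fun N hN => ?_⟩
    by_cases htop : N.comap (QuotientGroup.mk' _) = ⊤
    · right
      rw [eq_top_iff, ← Subgroup.map_comap_eq_self_of_surjective (QuotientGroup.mk'_surjective _) N,
        htop, Subgroup.map_top_of_surjective _ (QuotientGroup.mk'_surjective _)]
    · left
      rw [eq_bot_iff, ← Subgroup.map_comap_eq_self_of_surjective (QuotientGroup.mk'_surjective _) N]
      refine le_trans (Subgroup.map_mono (hprop _ inferInstance htop)) ?_
      rw [QuotientGroup.map_mk'_self]
  · -- then `L` is abelian, hence cyclic of order prime to `p`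
    have hcen := hprop _ inferInstance hperf
    by_cases habel : Subgroup.center ↥L = ⊤
    · rw [isPGroup_iff_forall_coprime] at hLp
      push Not at hLp
      obtain ⟨x, hx, hx1⟩ := hLp
      haveI : (Subgroup.zpowers x).Normal := ⟨fun n hn g => by
        rwa [Subgroup.mem_center_iff.1 (habel ▸ Subgroup.mem_top n) g, mul_inv_cancel_right]⟩
      have hsn : ((Subgroup.zpowers x).map L.subtype).IsSubnormal :=
        Subgroup.IsSubnormal.trans' (inferInstance : (Subgroup.zpowers x).Normal).isSubnormal hLs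
      have := coprime_le_pPrimeCore_of_isSubnormal (p := p) hsn (by
        rw [Subgroup.card_map_of_injective L.subtype_injective, Nat.card_zpowers]; exact hx)
        ⟨x, Subgroup.mem_zpowers x, rfl⟩
      rw [h0, Subgroup.mem_bot] at this
      exact hx1 (Subtype.ext this)
    · -- class two: every element lies in a proper normal subgroup
      apply habel
      rw [eq_top_iff]
      intro x _
      set M := Subgroup.zpowers x ⊔ Subgroup.center ↥L with hM
      have hMn : M.Normal := Subgroup.normalizer_eq_top_iff.1 (top_le_iff.1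
        (Subgroup.le_normalizer_iff_commutator_le_left.2
          ((Subgroup.commutator_mono le_top le_rfl).trans (hcen.trans le_sup_right))))
      by_cases hMt : M = ⊤
      · exfalso
        apply habel
        rw [eq_top_iff]
        intro y _
        rw [Subgroup.mem_center_iff]
        intro z
        have hxM : ∀ w : ↥L, w * x = x * w := by
          intro w
          obtain ⟨u, hu, v, hv, rfl⟩ := Subgroup.mem_sup_of_normal_right.1 (by rw [← hM, hMt]; exact Subgroup.mem_top w : w ∈ Subgroup.zpowers x ⊔ Subgroup.center ↥L)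
          obtain ⟨k, rfl⟩ := Subgroup.mem_zpowers_iff.1 hu
          have hv' := Subgroup.mem_center_iff.1 hv x
          rw [mul_assoc, ← hv', ← mul_assoc, ← mul_assoc, (Commute.zpow_self x k).eq]
        have hxc : x ∈ Subgroup.center ↥L := Subgroup.mem_center_iff.2 hxM
        have : M ≤ Subgroup.center ↥L := sup_le (Subgroup.zpowers_le.2 hxc) le_rfl
        exact (Subgroup.mem_center_iff.1 (this (hMt.symm ▸ Subgroup.mem_top y)) z)
      · exact hprop M hMn hMt (Subgroup.mem_sup_left (Subgroup.mem_zpowers x))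

/-- In characteristic `p` the generalized Fitting subgroup is `O_p`. -/
theorem generalizedFittingSubgroup_eq [Finite G] (hG : IsCharP p G) :
    generalizedFittingSubgroup G = pCore p G := by
  refine le_antisymm (sup_le ?_ ?_) ?_
  · exact sSup_le fun K hK => absurd hK (not_isComponent_of_isCharP hG K)
  · refine sSup_le fun N ⟨hN, hnil⟩ => ?_
    haveI := hnil
    haveI := hN
    refine le_pCore hN ?_
    rw [isPGroup_iff_forall_coprime]
    intro x hx
    have hNc := (isCharP_iff N).1 (isCharP_of_isSubnormal hG hN.isSubnormal) (x : G) x.2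
      (by rwa [Subgroup.orderOf_coe])
    refine Subtype.ext (hNc fun y hy => ?_)
    obtain ⟨y, hy, rfl⟩ := hy
    have key : ∀ (n : ℕ) (y : ↥N), y ∈ pCore p ↥N → y ∈ Subgroup.upperCentralSeries ↥N n →
        x * y = y * x := by
      intro n
      induction n with
      | zero => intro y _ hy; rw [Subgroup.upperCentralSeries_zero, Subgroup.mem_bot] at hy; simp [hy]
      | succ n ih =>
        intro y hyP hyZ
        set c := y⁻¹ * (x * y * x⁻¹) with hcdef
        have hcP : c ∈ pCore p ↥N :=
          mul_mem (inv_mem hyP) ((pCore_normal p ↥N).conj_mem y hyP x)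
        have hcZ : c ∈ Subgroup.upperCentralSeries ↥N n := by
          have h1 := Subgroup.mem_upperCentralSeries_succ_iff.1 (inv_mem hyZ) x
          rw [commutatorElement_def, inv_inv] at h1
          rw [hcdef, show y⁻¹ * (x * y * x⁻¹) = y⁻¹ * x * y * x⁻¹ by group]
          exact h1
        exact commute_of_conj_eq_mul (pCore_isPGroup p ↥N) hcP hx (by rw [hcdef]; group)
          (ih c hcP hcZ)
    obtain ⟨n, hn⟩ := Group.IsNilpotent.nilpotent ↥N
    exact congrArg Subtype.val (key n y hy (hn ▸ Subgroup.mem_top y))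
  · refine le_sup_of_le_right (le_sSup ⟨inferInstance, (pCore_isPGroup p G).isNilpotent⟩)

end Cfsg.Agent.CharP
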