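import Cfsg.Agent.Lib.Techniques.CharP
import Cfsg.Agent.Lib.Solvable.SchurZassenhaus

/-!
`p`-constrained groups: `G` is `p`-constrained iff `G / O_{p'}(G)` has characteristic `p`;
lifting of normalizers and centralizers of `p`-subgroups through a kernel of order prime to `p`;
inheritance of `p`-constraint by local subgroups.
-/

set_option autoImplicit false
set_option linter.style.haveILetI false

namespace Cfsg.Agent.PConstr

open Cfsg Cfsg.Agent.PBasic Cfsg.Agent.CharP Pointwise

variable {G Q : Type*} [Group G] [Group Q] {p : ℕ} [hp : Fact p.Prime]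

/-- Normalizers of `p`-subgroups lift through a kernel of order prime to `p`. -/
theorem exists_lift_normalizer [Finite G] (f : G →* Q) (hf : Function.Surjective f)
    (hk : (Nat.card f.ker).Coprime p) {U : Subgroup G} (hU : IsPGroup p U) {y : Q}
    (hy : y ∈ Subgroup.normalizer (U.map f : Set Q)) :
    ∃ x, x ∈ Subgroup.normalizer (U : Set G) ∧ f x = y := by
  obtain ⟨x, rfl⟩ := hf y
  have hn : U ≤ Subgroup.normalizer (f.ker : Set G) := by
    rw [Subgroup.normalizer_eq_top]; exact le_top
  obtain ⟨k, hk'⟩ := IsPGroup.iff_card.1 hU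
  have hcop : (Nat.card U).Coprime (Nat.card f.ker) := by
    rw [hk']; exact (hk.pow_right k).symm
  haveI := hU.isNilpotent
  have hB : MulAut.conj x • U ≤ f.ker ⊔ U := by
    intro z hz
    rw [SolvBasic.mem_conjSmul] at hz
    have : f z ∈ U.map f := by
      have h1 := (Subgroup.mem_normalizer_iff.1 hy (f (x⁻¹ * z * x))).1 ⟨_, hz, rfl⟩
      simpa [mul_assoc] using h1
    have : z ∈ (U.map f).comap f := this
    rwa [Subgroup.comap_map_eq, sup_comm] at this
  obtain ⟨n, hn', hnU⟩ := SchurZ.conj_in hn hcop (Or.inl inferInstance) hB (SolvBasic.card_conjSmul x U)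
  refine ⟨n⁻¹ * x, SolvBasic.mem_normalizer_iff_conjSmul.2 ?_, ?_⟩
  · rw [← SolvBasic.conjSmul_conjSmul, SolvBasic.eq_conjSmul_inv hnU]
  · rw [map_mul, map_inv, MonoidHom.mem_ker.1 hn', inv_one, one_mul]

theorem map_normalizer_eq [Finite G] (f : G →* Q) (hf : Function.Surjective f)
    (hk : (Nat.card f.ker).Coprime p) {U : Subgroup G} (hU : IsPGroup p U) :
    (Subgroup.normalizer (U : Set G)).map f = Subgroup.normalizer (U.map f : Set Q) := by
  refine le_antisymm ?_ fun y hy => ?_
  · exact Subgroup.le_normalizer_map f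
  · obtain ⟨x, hx, rfl⟩ := exists_lift_normalizer f hf hk hU hy
    exact ⟨x, hx, rfl⟩

/-- Centralizers of `p`-subgroups lift through a kernel of order prime to `p`. -/
theorem map_centralizer_eq [Finite G] (f : G →* Q) (hf : Function.Surjective f)
    (hk : (Nat.card f.ker).Coprime p) {U : Subgroup G} (hU : IsPGroup p U) :
    (Subgroup.centralizer (U : Set G)).map f = Subgroup.centralizer (U.map f : Set Q) := by
  refine le_antisymm ?_ fun y hy => ?_
  · rintro _ ⟨x, hx, rfl⟩
    rw [Subgroup.mem_centralizer_iff]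
    rintro _ ⟨u, hu, rfl⟩
    rw [← map_mul, ← map_mul, Subgroup.mem_centralizer_iff.1 hx u hu]
  · obtain ⟨x, hx, rfl⟩ := exists_lift_normalizer f hf hk hU (Subgroup.centralizer_le_normalizer _ hy)
    refine ⟨x, Subgroup.mem_centralizer_iff.2 fun u hu => ?_, rfl⟩
    have hmem : x * u * x⁻¹ * u⁻¹ ∈ f.ker := by
      rw [MonoidHom.mem_ker, map_mul, map_mul, map_mul, map_inv, map_inv,
        ← Subgroup.mem_centralizer_iff.1 hy (f u) ⟨u, hu, rfl⟩]
      group
    have h1 := eq_one_of_isPGroup_of_coprime hU
      (mul_mem ((Subgroup.mem_normalizer_iff.1 hx u).1 hu) (inv_mem hu)) (coprime_orderOf_of_mem hk hmem)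
    rw [mul_inv_eq_one, mul_inv_eq_iff_eq_mul] at h1
    exact h1.symm

/-- In characteristic `p` there is no normal subgroup of order prime to `p`. -/
theorem pPrimeCore_eq_bot_of_isCharP [Finite G] (h : IsCharP p G) : pPrimeCore p G = ⊥ := by
  haveI hn : (pPrimeCore p G).Normal := inferInstance
  haveI := (inferInstance : (pCore p G).Normal)
  have h0 : pPrimeCore p G ⊓ pCore p G = ⊥ :=
    inf_eq_bot_of_coprime (pPrimeCore_coprime p G) (pCore_isPGroup p G)
  rw [eq_bot_iff]
  intro x hx
  rw [← h0]
  refine ⟨hx, h (Subgroup.mem_centralizer_iff.2 fun y hy => ?_)⟩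
  exact (Subgroup.commute_of_normal_of_disjoint _ _ inferInstance hn
    (disjoint_iff.2 (by rw [inf_comm]; exact h0)) y x hy hx).eq

/-- `G` is `p`-constrained iff `G / O_{p'}(G)` has characteristic `p`. -/
theorem isPConstrained_iff [Finite G] :
    IsPConstrained p G ↔ IsCharP p (G ⧸ pPrimeCore p G) := by
  set M := pPrimePCore p G with hM
  set f := QuotientGroup.mk' (pPrimeCore p G) with hf
  have hker : (Nat.card f.ker).Coprime p := by
    rw [hf, QuotientGroup.ker_mk']; exact pPrimeCore_coprime p G
  have hfs : Function.Surjective f := QuotientGroup.mk'_surjective _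
  have hP : ∀ P : Sylow p ↥M,
      ((P : Subgroup ↥M).map M.subtype).map f = pCore p (G ⧸ pPrimeCore p G) := by
    intro P
    set g : ↥M →* ↥(pCore p (G ⧸ pPrimeCore p G)) :=
      (f.comp M.subtype).codRestrict _ (fun x => x.2) with hg
    have hgs : Function.Surjective g := fun ⟨y, hy⟩ => by
      obtain ⟨x, rfl⟩ := hfs y
      exact ⟨⟨x, hy⟩, rfl⟩
    have h1 : ((P : Subgroup ↥M).map g).index ∣ (P : Subgroup ↥M).index :=
      Subgroup.index_map_dvd _ hgs
    obtain ⟨k, hk⟩ := ((pCore_isPGroup p (G ⧸ pPrimeCore p G)).index ((P : Subgroup ↥M).map g))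
    have htop : (P : Subgroup ↥M).map g = ⊤ := by
      rw [← Subgroup.index_eq_one, hk]
      rcases Nat.eq_zero_or_pos k with rfl | hk0
      · exact pow_zero p
      · exact absurd ((dvd_pow_self p hk0.ne').trans (hk ▸ h1)) P.not_dvd_index
    refine le_antisymm ?_ fun y hy => ?_
    · rintro _ ⟨_, ⟨x, -, rfl⟩, rfl⟩
      exact x.2
    · obtain ⟨x, hx, hxy⟩ : (⟨y, hy⟩ : ↥(pCore p (G ⧸ pPrimeCore p G))) ∈ (P : Subgroup ↥M).map g :=
        htop ▸ Subgroup.mem_top _
      exact ⟨_, ⟨x, hx, rfl⟩, congrArg Subtype.val hxy⟩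
  constructor
  · intro h y hy
    obtain ⟨P⟩ : Nonempty (Sylow p ↥M) := Sylow.nonempty
    have hPg : IsPGroup p ((P : Subgroup ↥M).map M.subtype) := P.isPGroup'.map _
    rw [← hP P, ← map_centralizer_eq f hfs hker hPg] at hy
    obtain ⟨x, hx, rfl⟩ := hy
    exact h P hx
  · intro h P x hx
    show f x ∈ pCore p (G ⧸ pPrimeCore p G)
    refine h ?_
    rw [← hP P, ← map_centralizer_eq f hfs hker (P.isPGroup'.map _)]
    exact ⟨x, hx, rfl⟩

/-- A group with a characteristic `p` quotient by a kernel of order prime to `p` is `p`-constrained. -/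
theorem isPConstrained_of_surjective [Finite G] (f : G →* Q) (hf : Function.Surjective f)
    (hk : (Nat.card f.ker).Coprime p) (h : IsCharP p Q) : IsPConstrained p G := by
  haveI : Finite Q := Finite.of_surjective f hf
  have he : pPrimeCore p G = f.ker := by
    refine le_antisymm ?_ (le_pPrimeCore inferInstance hk)
    have := map_pPrimeCore_le_of_surjective (p := p) f hf
    rw [pPrimeCore_eq_bot_of_isCharP h, le_bot_iff, Subgroup.map_eq_bot_iff] at this
    exact this
  haveI : (pPrimeCore p G).Normal := inferInstance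
  rw [isPConstrained_iff]
  exact isCharP_congr ((QuotientGroup.quotientKerEquivOfSurjective f hf).symm.trans
    (QuotientGroup.quotientMulEquivOfEq he.symm)) h

theorem isPConstrained_of_isCharP [Finite G] (h : IsCharP p G) : IsPConstrained p G :=
  isPConstrained_of_surjective (MonoidHom.id G) Function.surjective_id
    (by rw [MonoidHom.ker_id, Subgroup.card_bot]; exact Nat.coprime_one_left p) h

theorem isCharP_of_isPConstrained [Finite G] (h : IsPConstrained p G) (h0 : pPrimeCore p G = ⊥) :
    IsCharP p G :=
  isCharP_congr ((QuotientGroup.quotientMulEquivOfEq h0).trans QuotientGroup.quotientBot)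
    (isPConstrained_iff.1 h)

/-- Restriction of a homomorphism with `p'`-kernel, image of characteristic `p`. -/
theorem isPConstrained_of_map [Finite G] (f : G →* Q) (hk : (Nat.card f.ker).Coprime p)
    {H : Subgroup G} (h : IsCharP p ↥(H.map f)) : IsPConstrained p ↥H := by
  refine isPConstrained_of_surjective (f.subgroupMap H) (f.subgroupMap_surjective H) ?_ h
  refine Nat.Coprime.coprime_dvd_left ?_ hk
  have : (f.subgroupMap H).ker.map H.subtype ≤ f.ker := by
    rintro _ ⟨x, hx, rfl⟩
    exact congrArg Subtype.val hx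
  have := Subgroup.card_dvd_of_le this
  rwa [Subgroup.card_map_of_injective H.subtype_injective] at this

/-- Normalizers of `p`-subgroups of a `p`-constrained group are `p`-constrained. -/
theorem isPConstrained_normalizer [Finite G] (h : IsPConstrained p G) {U : Subgroup G}
    (hU : IsPGroup p U) : IsPConstrained p ↥(Subgroup.normalizer (U : Set G)) := by
  set f := QuotientGroup.mk' (pPrimeCore p G) with hf
  have hker : (Nat.card f.ker).Coprime p := by
    rw [hf, QuotientGroup.ker_mk']; exact pPrimeCore_coprime p G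
  refine isPConstrained_of_map f hker ?_
  rw [map_normalizer_eq f (QuotientGroup.mk'_surjective _) hker hU]
  have h1 := isCharP_inf_normalizer (K := (⊤ : Subgroup (G ⧸ pPrimeCore p G)))
    (isCharP_top.2 (isPConstrained_iff.1 h)) (hU.map f) le_top
  rwa [top_inf_eq] at h1

/-- Centralizers of `p`-subgroups of a `p`-constrained group are `p`-constrained. -/
theorem isPConstrained_centralizer [Finite G] (h : IsPConstrained p G) {U : Subgroup G}
    (hU : IsPGroup p U) : IsPConstrained p ↥(Subgroup.centralizer (U : Set G)) := by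
  set f := QuotientGroup.mk' (pPrimeCore p G) with hf
  have hker : (Nat.card f.ker).Coprime p := by
    rw [hf, QuotientGroup.ker_mk']; exact pPrimeCore_coprime p G
  refine isPConstrained_of_map f hker ?_
  rw [map_centralizer_eq f (QuotientGroup.mk'_surjective _) hker hU]
  have h1 := isCharP_inf_centralizer (K := (⊤ : Subgroup (G ⧸ pPrimeCore p G)))
    (isCharP_top.2 (isPConstrained_iff.1 h)) (hU.map f) (by
      rw [Subgroup.normalizer_eq_top]; exact le_top)
  rwa [top_inf_eq] at h1

theorem isPConstrained_congr [Finite G] (e : G ≃* Q) (h : IsPConstrained p G) :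
    IsPConstrained p Q := by
  haveI : Finite Q := Finite.of_equiv G e.toEquiv
  haveI : (pPrimeCore p G).Normal := inferInstance
  refine isPConstrained_of_surjective ((QuotientGroup.mk' (pPrimeCore p G)).comp e.symm.toMonoidHom)
    ((QuotientGroup.mk'_surjective _).comp e.symm.surjective) ?_ (isPConstrained_iff.1 h)
  rw [← MonoidHom.comap_ker, QuotientGroup.ker_mk', ← Subgroup.map_equiv_eq_comap_symm',
    Subgroup.card_map_of_injective e.injective]
  exact pPrimeCore_coprime p G

/-- If the centralizer of a normal `p`-subgroup is `p`-constrained, so is the whole group. -/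
theorem isPConstrained_of_normal_centralizer [Finite G] {T : Subgroup G} (hT : IsPGroup p T)
    (hTn : T.Normal) (hC : IsPConstrained p ↥(Subgroup.centralizer (T : Set G))) :
    IsPConstrained p G := by
  haveI := hTn
  set C := Subgroup.centralizer (T : Set G) with hCdef
  haveI hN : (pPrimeCore p G).Normal := inferInstance
  set f := QuotientGroup.mk' (pPrimeCore p G) with hf
  have hker : (Nat.card f.ker).Coprime p := by
    rw [hf, QuotientGroup.ker_mk']; exact pPrimeCore_coprime p G
  have hfs : Function.Surjective f := QuotientGroup.mk'_surjective _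
  have hNC : pPrimeCore p G ≤ C := fun x hx => Subgroup.mem_centralizer_iff.2 fun t ht =>
    (Subgroup.commute_of_normal_of_disjoint _ _ hTn hN (disjoint_iff.2
      (by rw [inf_comm]; exact inf_eq_bot_of_coprime (pPrimeCore_coprime p G) hT)) t x ht hx).eq
  have hcC : pPrimeCore p ↥C = (pPrimeCore p G).subgroupOf C := by
    refine le_antisymm (fun x hx => map_pPrimeCore_le_of_normal C ⟨x, hx, rfl⟩) ?_
    refine le_pPrimeCore inferInstance ?_
    rw [Nat.card_congr (Subgroup.subgroupOfEquivOfLe hNC).toEquiv]
    exact pPrimeCore_coprime p G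
  have hCbar : IsCharP p ↥(C.map f) := by
    refine isCharP_congr ?_ (isPConstrained_iff.1 hC)
    refine (QuotientGroup.quotientMulEquivOfEq ?_).trans
      (QuotientGroup.quotientKerEquivOfSurjective _ (f.subgroupMap_surjective C))
    rw [hcC]
    ext a
    rw [MonoidHom.mem_ker, Subgroup.mem_subgroupOf, ← QuotientGroup.eq_one_iff]
    exact ⟨fun h => Subtype.ext h, fun h => congrArg Subtype.val h⟩
  have hCf : Subgroup.centralizer (T.map f : Set (G ⧸ pPrimeCore p G)) = C.map f :=
    (map_centralizer_eq f hfs hker hT).symm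
  rw [isPConstrained_iff]
  refine isCharP_top.1 ((isCharP_iff _).2 fun x _ hx hc => ?_)
  have hTO : T.map f ≤ opIn p (⊤ : Subgroup (G ⧸ pPrimeCore p G)) := by
    refine le_opIn le_top ?_ (hT.map f)
    haveI := hTn.map f hfs
    rw [Subgroup.normalizer_eq_top]
  have hxC : x ∈ C.map f := by
    rw [← hCf, Subgroup.mem_centralizer_iff]
    exact fun t ht => (hc t (hTO ht)).symm
  refine (isCharP_iff _).1 hCbar x hxC hx fun y hy => hc y ?_
  refine le_opIn le_top ?_ (opIn_isPGroup (C.map f)) hy
  refine le_trans ?_ (normalizer_le_normalizer_opIn _)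
  haveI : (C.map f).Normal := Subgroup.Normal.map inferInstance f hfs
  rw [Subgroup.normalizer_eq_top]

end Cfsg.Agent.PConstr
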