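import Cfsg.Prelude.Def_Local
import Cfsg.Agent.Lib.Transfer.Basic
import Cfsg.Agent.Lib.Solvable.SchurZassenhaus

/-!
`H = P ⊓ O_{p',p}(G)`: Frattini factorisation `G = N(H) O_{p'}(G)` and control of fusion by `N(H)`.
-/

set_option autoImplicit false
set_option linter.style.haveILetI false

namespace Cfsg.Agent.PPrimePC

open Cfsg

variable {G : Type*} [Group G] {p : ℕ}

theorem pPrimePCore_normal : (pPrimePCore p G).Normal :=
  Subgroup.Normal.comap inferInstance _

theorem pPrimeCore_le : pPrimeCore p G ≤ pPrimePCore p G := by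
  intro d hd
  change QuotientGroup.mk' (pPrimeCore p G) d ∈ pCore p (G ⧸ pPrimeCore p G)
  rw [QuotientGroup.mk'_apply, (QuotientGroup.eq_one_iff d).2 hd]
  exact one_mem _

/-- `H = P ⊓ O_{p',p}(G)`. -/
def coreH (p : ℕ) (P : Subgroup G) : Subgroup G := P ⊓ pPrimePCore p G

theorem le_normalizer (P : Subgroup G) : P ≤ Subgroup.normalizer (coreH p P : Set G) := by
  haveI := pPrimePCore_normal (G := G) (p := p)
  exact Subgroup.le_normalizer_iff.2 fun g hg x hx => Subgroup.mem_inf.2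
    ⟨mul_mem (mul_mem hg (Subgroup.mem_inf.1 hx).1) (inv_mem hg),
      (inferInstance : (pPrimePCore p G).Normal).conj_mem x (Subgroup.mem_inf.1 hx).2 g⟩

variable [Finite G] [hp : Fact p.Prime]

theorem inf_pPrimeCore (P : Sylow p G) : pPrimeCore p G ⊓ (P : Subgroup G) = ⊥ :=
  PBasic.inf_eq_bot_of_coprime (PBasic.pPrimeCore_coprime p G) P.isPGroup'

/-- `O_{p',p}(G) = H O_{p'}(G)`. -/
theorem pPrimePCore_le_sup (P : Sylow p G) :
    pPrimePCore p G ≤ coreH p (P : Subgroup G) ⊔ pPrimeCore p G := by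
  haveI := pPrimePCore_normal (G := G) (p := p)
  intro e he
  obtain ⟨u, v, huv, hu, hv', ⟨k, hk⟩, hv⟩ := PBasic.exists_pPart_mul (p := p) e
  have hvD : v ∈ pPrimeCore p G := by
    rw [← QuotientGroup.eq_one_iff]
    have hvz : v ∈ Subgroup.zpowers e := hv'
    refine PBasic.eq_one_of_isPGroup_of_coprime (p := p) (PBasic.pCore_isPGroup p _)
      (?_ : QuotientGroup.mk' (pPrimeCore p G) v ∈ pCore p (G ⧸ pPrimeCore p G))
      (Nat.Coprime.coprime_dvd_left (orderOf_map_dvd (QuotientGroup.mk' (pPrimeCore p G)) v) hv)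
    exact (Subgroup.zpowers_le.2 he : Subgroup.zpowers e ≤ pPrimePCore p G) hvz
  have hue : u ∈ pPrimePCore p G := (Subgroup.zpowers_le.2 he : Subgroup.zpowers e ≤ _) hu
  obtain ⟨Q, hQ⟩ := PBasic.exists_sylow_subgroupOf P (pPrimePCore p G)
  have hpg : IsPGroup p (↥(pPrimePCore p G) ⧸ (pPrimeCore p G).subgroupOf (pPrimePCore p G)) := by
    let f : ↥(pPrimePCore p G) →* ↥(pCore p (G ⧸ pPrimeCore p G)) :=
      (QuotientGroup.mk' (pPrimeCore p G)).subgroupComap _
    have hker : f.ker = (pPrimeCore p G).subgroupOf (pPrimePCore p G) := by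
      ext x
      rw [MonoidHom.mem_ker, Subgroup.mem_subgroupOf, ← QuotientGroup.eq_one_iff]
      exact Subtype.ext_iff
    exact ((PBasic.pCore_isPGroup p _).of_injective (QuotientGroup.kerLift f)
      (QuotientGroup.kerLift_injective f)).of_equiv (QuotientGroup.quotientMulEquivOfEq hker)
  have htop := PBasic.sylow_sup_eq_top Q hpg
  have h := congrArg (Subgroup.map (pPrimePCore p G).subtype) htop
  rw [hQ, Subgroup.map_sup, ← MonoidHom.range_eq_map, Subgroup.range_subtype,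
    Subgroup.map_subgroupOf_eq_of_le pPrimeCore_le, Subgroup.subgroupOf_map_subtype] at h
  exact h.ge he

/-- Frattini: `G = N(H) O_{p'}(G)`. -/
theorem normalizer_sup_eq_top (P : Sylow p G) :
    Subgroup.normalizer (coreH p (P : Subgroup G) : Set G) ⊔ pPrimeCore p G = ⊤ := by
  haveI := pPrimePCore_normal (G := G) (p := p)
  obtain ⟨Q, hQ⟩ := PBasic.exists_sylow_subgroupOf P (pPrimePCore p G)
  have h := Sylow.normalizer_sup_eq_top Q
  rw [hQ, Subgroup.subgroupOf_map_subtype] at h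
  rw [eq_top_iff, ← h]
  refine sup_le le_sup_left ((pPrimePCore_le_sup P).trans (sup_le ?_ le_sup_right))
  exact Subgroup.le_normalizer.trans le_sup_left

omit [Finite G] hp in
theorem centralizer_le (P : Subgroup G) :
    Subgroup.centralizer (coreH p P : Set G) ≤ Subgroup.normalizer (coreH p P : Set G) :=
  Subgroup.centralizer_le_normalizer _

theorem mem_centralizer_of_mem (P : Sylow p G) {d : G} (hd : d ∈ pPrimeCore p G)
    (hN : d ∈ Subgroup.normalizer (coreH p (P : Subgroup G) : Set G)) :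
    d ∈ Subgroup.centralizer (coreH p (P : Subgroup G) : Set G) :=
  SchurZ.mem_centralizer_of_mem_normalizer (by rw [Subgroup.normalizer_eq_top]; exact le_top)
    (le_bot_iff.1 ((inf_le_inf_left _ inf_le_left).trans (inf_pPrimeCore P).le)) hd hN

/-- The factorisation of elements of `O_{p'}(G)` conjugating `y` into `N(H)`. -/
theorem factor (P : Sylow p G) {y : G}
    (hy : y ∈ Subgroup.normalizer (coreH p (P : Subgroup G) : Set G))
    (hyp : ∃ k : ℕ, orderOf y = p ^ k) {d : G} (hd : d ∈ pPrimeCore p G)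
    (hdy : d⁻¹ * y * d ∈ Subgroup.normalizer (coreH p (P : Subgroup G) : Set G)) :
    ∃ d₁ ∈ pPrimeCore p G ⊓ Subgroup.centralizer ({y} : Set G),
      ∃ d₂ ∈ pPrimeCore p G ⊓ Subgroup.centralizer (coreH p (P : Subgroup G) : Set G),
        d = d₁ * d₂ := by
  set H := coreH p (P : Subgroup G) with hH
  set C := pPrimeCore p G ⊓ Subgroup.centralizer (H : Set G) with hCdef
  have hDn : (pPrimeCore p G).Normal := inferInstance
  have hcD : y⁻¹ * (d⁻¹ * y * d) ∈ pPrimeCore p G := by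
    rw [show y⁻¹ * (d⁻¹ * y * d) = y⁻¹ * d⁻¹ * y * d by group]
    refine mul_mem ?_ hd
    have := hDn.conj_mem _ (inv_mem hd) y⁻¹
    rwa [inv_inv] at this
  have hcC : y⁻¹ * (d⁻¹ * y * d) ∈ C :=
    Subgroup.mem_inf.2 ⟨hcD, mem_centralizer_of_mem P hcD (mul_mem (inv_mem hy) hdy)⟩
  have hnC : ∀ g ∈ Subgroup.normalizer (H : Set G), ∀ c ∈ C, g * c * g⁻¹ ∈ C := by
    intro g hg c hc
    refine Subgroup.mem_inf.2 ⟨hDn.conj_mem c (Subgroup.mem_inf.1 hc).1 g,
      Subgroup.mem_centralizer_iff.2 fun h hh => ?_⟩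
    have h' := (Subgroup.mem_normalizer_iff.1 (inv_mem hg) h).1 hh
    rw [inv_inv] at h'
    have hcomm := Subgroup.mem_centralizer_iff.1 (Subgroup.mem_inf.1 hc).2 _ h'
    calc h * (g * c * g⁻¹) = g * ((g⁻¹ * h * g) * c) * g⁻¹ := by group
      _ = g * (c * (g⁻¹ * h * g)) * g⁻¹ := by rw [hcomm]
      _ = g * c * g⁻¹ * h := by group
  have hpg : IsPGroup p ↥(Subgroup.zpowers y) := by
    obtain ⟨k, hk⟩ := hyp
    exact IsPGroup.of_card (n := k) (by rw [Nat.card_zpowers, hk])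
  have hcop : (Nat.card ↥(Subgroup.zpowers y)).Coprime (Nat.card ↥C) := by
    obtain ⟨k, hk⟩ := hyp
    rw [Nat.card_zpowers, hk]
    exact (Nat.Coprime.coprime_dvd_left (Subgroup.card_dvd_of_le inf_le_left)
      (PBasic.pPrimeCore_coprime p G)).symm.pow_left k
  haveI := hpg.isNilpotent
  obtain ⟨k, hk, hkA⟩ := SchurZ.conj_in (A := Subgroup.zpowers y) (K := C)
    (B := Subgroup.zpowers (d⁻¹ * y * d))
    (Subgroup.zpowers_le.2 (Subgroup.le_normalizer_iff.2 hnC hy))
    hcop (Or.inl inferInstance)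
    (Subgroup.zpowers_le.2 (by
      rw [show d⁻¹ * y * d = y * (y⁻¹ * (d⁻¹ * y * d)) by group]
      exact mul_mem (Subgroup.mem_sup_right (Subgroup.mem_zpowers y)) (Subgroup.mem_sup_left hcC)))
    (by
      rw [Nat.card_zpowers, Nat.card_zpowers]
      have h := orderOf_injective (MulAut.conj d⁻¹).toMonoidHom (MulAut.conj d⁻¹).injective y
      simpa using h)
  have heD : d * k ∈ pPrimeCore p G := mul_mem hd (Subgroup.mem_inf.1 hk).1
  have heN : d * k ∈ Subgroup.normalizer (Subgroup.zpowers y : Set G) := by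
    rw [Subgroup.mem_normalizer_iff']
    intro x
    have e1 : ∀ x : G, x ∈ Subgroup.zpowers y ↔
        d * k * x * (d * k)⁻¹ ∈ Subgroup.zpowers y := by
      intro x
      have h1 : x ∈ Subgroup.zpowers y ↔ k * x * k⁻¹ ∈ Subgroup.zpowers (d⁻¹ * y * d) := by
        rw [← hkA, SolvBasic.mem_conjSmul]
        simp [mul_assoc]
      have h2 : ∀ z : G, z ∈ Subgroup.zpowers (d⁻¹ * y * d) ↔ d * z * d⁻¹ ∈ Subgroup.zpowers y := by
        intro z
        have h3 : Subgroup.zpowers (d⁻¹ * y * d) =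
            (Subgroup.zpowers y).map (MulAut.conj d⁻¹).toMonoidHom := by
          rw [MonoidHom.map_zpowers]
          simp
        rw [h3]
        constructor
        · rintro ⟨w, hw, rfl⟩
          simpa [mul_assoc] using hw
        · intro hz
          exact ⟨d * z * d⁻¹, hz, by simp [mul_assoc]⟩
      rw [h1, h2, show d * (k * x * k⁻¹) * d⁻¹ = d * k * x * (d * k)⁻¹ by group]
    rw [e1 (x * (d * k)), show d * k * (x * (d * k)) * (d * k)⁻¹ = d * k * x by group]
  have hec : d * k ∈ Subgroup.centralizer ({y} : Set G) := by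
    have := SchurZ.mem_centralizer_of_mem_normalizer (A := Subgroup.zpowers y) (K := pPrimeCore p G)
      (by rw [Subgroup.normalizer_eq_top]; exact le_top)
      (PBasic.inf_eq_bot_of_coprime (PBasic.pPrimeCore_coprime p G) hpg) heD heN
    rw [Subgroup.mem_centralizer_singleton_iff]
    exact (Subgroup.mem_centralizer_iff.1 this y (Subgroup.mem_zpowers y)).symm
  exact ⟨d * k, Subgroup.mem_inf.2 ⟨heD, hec⟩, k⁻¹, inv_mem hk, by group⟩

/-- `N(H)` controls fusion in `P`. -/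
theorem fusion (P : Sylow p G) {x z : G} (hx : x ∈ (P : Subgroup G)) (hz : z ∈ (P : Subgroup G))
    (h : IsConj x z) :
    ∃ n ∈ Subgroup.normalizer (coreH p (P : Subgroup G) : Set G), n * x * n⁻¹ = z := by
  obtain ⟨g, hg⟩ := isConj_iff.1 h
  obtain ⟨n, hn, d, hd, rfl⟩ := Subgroup.mem_sup_of_normal_right.1
    ((normalizer_sup_eq_top P).symm ▸ Subgroup.mem_top g)
  have hxN := le_normalizer (p := p) (P : Subgroup G) hx
  have hzN := le_normalizer (p := p) (P : Subgroup G) hz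
  have hxp : ∃ k : ℕ, orderOf x = p ^ k := by
    obtain ⟨k, hk⟩ := IsPGroup.iff_orderOf.1 P.isPGroup' ⟨x, hx⟩
    exact ⟨k, by rwa [Subgroup.orderOf_mk] at hk⟩
  have hd' : (d⁻¹)⁻¹ * x * d⁻¹ ∈ Subgroup.normalizer (coreH p (P : Subgroup G) : Set G) := by
    rw [inv_inv, show d * x * d⁻¹ = n⁻¹ * (n * d * x * (n * d)⁻¹) * n by group, hg]
    exact mul_mem (mul_mem (inv_mem hn) hzN) hn
  obtain ⟨d₁, hd₁, d₂, hd₂, hdd⟩ := factor P hxN hxp (inv_mem hd) hd'
  refine ⟨n * d₂⁻¹, mul_mem hn (inv_mem (centralizer_le _ (Subgroup.mem_inf.1 hd₂).2)), ?_⟩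
  have hd1 := Subgroup.mem_centralizer_singleton_iff.1 (Subgroup.mem_inf.1 hd₁).2
  rw [← hg, show d = d₂⁻¹ * d₁⁻¹ by rw [← mul_inv_rev, ← hdd, inv_inv]]
  calc n * d₂⁻¹ * x * (n * d₂⁻¹)⁻¹ = n * d₂⁻¹ * d₁⁻¹ * (d₁ * x) * (n * d₂⁻¹)⁻¹ := by group
    _ = n * d₂⁻¹ * d₁⁻¹ * (x * d₁) * (n * d₂⁻¹)⁻¹ := by rw [hd1]
    _ = _ := by group

end Cfsg.Agent.PPrimePC
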